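import Groth.Agent.Lib.GradedAlg.Basic

/-!
# Veronese subalgebras and weighted monomials
-/

set_option autoImplicit false
set_option linter.all false

universe u

open DirectSum

namespace GrothLib.VerEmb4

variable {R A : Type u} [CommRing R] [CommRing A] [Algebra R A] (𝒜 : ℕ → Submodule R A) [GradedAlgebra 𝒜]

theorem exists_veronese (d : ℕ) (hd : 0 < d) :
    ∃ (B : Subalgebra R A) (ℬ : ℕ → Submodule R B) (_ : GradedAlgebra ℬ),
      ∀ n : ℕ, Submodule.map B.val.toLinearMap (ℬ n) = 𝒜 (n * d) := by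
  classical
  let S : Submodule R A := ⨆ n : ℕ, 𝒜 (n * d)
  have h1 : (1 : A) ∈ S := Submodule.mem_iSup_of_mem 0 (by rw [zero_mul]; exact SetLike.GradedOne.one_mem)
  have hmul : ∀ x y, x ∈ S → y ∈ S → x * y ∈ S := by
    intro x y hx hy
    induction hx using Submodule.iSup_induction' with
    | mem n a ha =>
      induction hy using Submodule.iSup_induction' with
      | mem m b hb =>
        exact Submodule.mem_iSup_of_mem (n + m) (by rw [add_mul]; exact SetLike.mul_mem_graded ha hb)
      | zero => rw [mul_zero]; exact S.zero_mem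
      | add b b' _ _ hb hb' => rw [mul_add]; exact S.add_mem hb hb'
    | zero => rw [zero_mul]; exact S.zero_mem
    | add a a' _ _ ha ha' => rw [add_mul]; exact S.add_mem ha ha'
  let B : Subalgebra R A := S.toSubalgebra h1 hmul
  let ℬ : ℕ → Submodule R B := fun n => (𝒜 (n * d)).comap B.val.toLinearMap
  have hval : Function.Injective B.val.toLinearMap := Subtype.coe_injective
  have hmap : ∀ n, Submodule.map B.val.toLinearMap (ℬ n) = 𝒜 (n * d) := fun n => by
    refine le_antisymm (Submodule.map_comap_le _ _) fun a ha => ?_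
    exact ⟨⟨a, Submodule.mem_iSup_of_mem n ha⟩, ha, rfl⟩
  haveI : SetLike.GradedMonoid ℬ :=
    { one_mem := by
        show (1 : A) ∈ 𝒜 (0 * d)
        rw [zero_mul]; exact SetLike.GradedOne.one_mem
      mul_mem := fun i j a b ha hb => by
        show (a : A) * (b : A) ∈ 𝒜 ((i + j) * d)
        rw [add_mul]; exact SetLike.mul_mem_graded ha hb }
  have hind : iSupIndep ℬ := by
    have h : iSupIndep fun n => 𝒜 (n * d) :=
      (DirectSum.Decomposition.isInternal 𝒜).submodule_iSupIndep.comp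
        (fun a b hab => Nat.eq_of_mul_eq_mul_right hd hab)
    intro n
    rw [disjoint_iff, eq_bot_iff]
    intro x hx
    have h2 : (x : A) ∈ 𝒜 (n * d) ⊓ ⨆ (j) (_ : j ≠ n), 𝒜 (j * d) := by
      refine ⟨hx.1, ?_⟩
      have hx2 := Submodule.mem_map_of_mem (f := B.val.toLinearMap) hx.2
      simp only [Submodule.map_iSup, hmap] at hx2
      exact hx2
    rw [disjoint_iff.1 (h n)] at h2
    exact Subtype.coe_injective (show (x : A) = ((0 : B) : A) from (Submodule.mem_bot R).1 h2)
  have htop : iSup ℬ = ⊤ := by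
    refine eq_top_iff.2 fun x _ => ?_
    have h : (x : A) ∈ Submodule.map B.val.toLinearMap (iSup ℬ) := by
      rw [Submodule.map_iSup]; exact (iSup_congr hmap).ge x.2
    obtain ⟨y, hy, hy'⟩ := h
    rwa [← hval hy']
  letI : DirectSum.Decomposition ℬ :=
    ((DirectSum.isInternal_submodule_iff_iSupIndep_and_iSup_eq_top ℬ).2 ⟨hind, htop⟩).chooseDecomposition
  exact ⟨B, ℬ, { }, hmap⟩

variable {s : ℕ} (f : Fin s → A) (deg : Fin s → ℕ)

/-- Monomials of a given weight. -/
def Mon (n : ℕ) : Set A := {x | ∃ k : Fin s → ℕ, ∑ i, k i * deg i = n ∧ ∏ i, f i ^ k i = x}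

variable {f deg}

theorem monomial_mem (hf : ∀ i, f i ∈ 𝒜 (deg i)) (k : Fin s → ℕ) : ∏ i, f i ^ k i ∈ 𝒜 (∑ i, k i * deg i) :=
  SetLike.prod_mem_graded _ _ _ fun i _ => by simpa using SetLike.pow_mem_graded (k i) (hf i)

theorem finite_Mon (hdeg : ∀ i, 0 < deg i) (n : ℕ) : (Mon f deg n).Finite := by
  refine (Set.finite_range fun k : Fin s → Fin (n + 1) => ∏ i, f i ^ (k i : ℕ)).subset ?_
  rintro x ⟨k, hk, rfl⟩
  refine ⟨fun i => ⟨k i, Nat.lt_succ_of_le ?_⟩, rfl⟩
  calc k i ≤ k i * deg i := Nat.le_mul_of_pos_right _ (hdeg i)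
    _ ≤ ∑ j, k j * deg j := Finset.single_le_sum (f := fun j => k j * deg j) (fun _ _ => Nat.zero_le _) (Finset.mem_univ i)
    _ = n := hk

/-- Each degree is spanned by the monomials of that weight. -/
theorem mem_span_Mon (hf : ∀ i, f i ∈ 𝒜 (deg i)) (hgen : Algebra.adjoin R (Set.range f) = ⊤) {n : ℕ} {a : A}
    (ha : a ∈ 𝒜 n) : a ∈ Submodule.span R (Mon f deg n) := by
  classical
  rw [Algebra.adjoin_range_eq_range_aeval] at hgen
  obtain ⟨P, hP⟩ := (AlgHom.range_eq_top _).1 hgen a
  rw [← DirectSum.decompose_of_mem_same 𝒜 ha, ← hP]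
  clear hP ha
  induction P using MvPolynomial.induction_on' with
  | monomial e c =>
    have h : MvPolynomial.aeval f (MvPolynomial.monomial e c) = c • ∏ i, f i ^ e i := by
      rw [MvPolynomial.aeval_monomial, Algebra.smul_def,
        Finsupp.prod_fintype _ _ (fun i => pow_zero (f i))]
    have hm := monomial_mem 𝒜 hf fun i => e i
    rw [h, DirectSum.decompose_smul]
    show (((c • DirectSum.decompose 𝒜 (∏ i, f i ^ e i)) n : 𝒜 n) : A) ∈ _
    rw [DirectSum.smul_apply, SetLike.val_smul]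
    refine Submodule.smul_mem _ c ?_
    by_cases he : ∑ i, e i * deg i = n
    · subst he
      rw [DirectSum.decompose_of_mem_same 𝒜 hm]
      exact Submodule.subset_span ⟨_, rfl, rfl⟩
    · rw [DirectSum.decompose_of_mem_ne 𝒜 hm he]
      exact zero_mem _
  | add p q hp hq =>
    rw [map_add, DirectSum.decompose_add, DirectSum.add_apply, Submodule.coe_add]
    exact add_mem hp hq

theorem exists_le_sum_eq : ∀ {r : ℕ} (q : Fin r → ℕ) (t : ℕ), t ≤ ∑ i, q i →
    ∃ q' : Fin r → ℕ, (∀ i, q' i ≤ q i) ∧ ∑ i, q' i = t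
  | 0, q, t, h => ⟨q, fun i => le_rfl, by simp at h ⊢; omega⟩
  | r + 1, q, t, h => by
    rw [Fin.sum_univ_succ] at h
    obtain ⟨q', h1, h2⟩ := exists_le_sum_eq (fun i => q i.succ) (t - min t (q 0)) (by omega)
    refine ⟨Fin.cons (min t (q 0)) q', Fin.cases (by simp) (fun i => by simpa using h1 i), ?_⟩
    rw [Fin.sum_univ_succ]
    simp only [Fin.cons_zero, Fin.cons_succ, h2]
    omega

/-- A weight `j * (a * l)` splits off a weight `a * l`. -/
theorem exists_split (hdeg : ∀ i, 0 < deg i) {a : ℕ} (has : s - 1 ≤ a) (k : Fin s → ℕ) {j : ℕ} (hj : 0 < j)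
    (hk : ∑ i, k i * deg i = j * (a * Finset.univ.lcm deg)) :
    ∃ k' : Fin s → ℕ, (∀ i, k' i ≤ k i) ∧ ∑ i, k' i * deg i = a * Finset.univ.lcm deg := by
  classical
  set l := Finset.univ.lcm deg with hldef
  have hl : ∀ i, ∃ m, l = deg i * m := fun i => Finset.dvd_lcm (Finset.mem_univ i)
  choose m hm using hl
  have hl0 : 0 < l := by
    rw [pos_iff_ne_zero, Ne, hldef, Finset.lcm_eq_zero_iff]
    rintro ⟨i, -, hi⟩
    exact (hdeg i).ne' hi
  have hm0 : ∀ i, 0 < m i := fun i => Nat.pos_of_ne_zero fun h => by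
    have := hm i; rw [h, mul_zero] at this; omega
  let r : Fin s → ℕ := fun i => k i % m i
  let q : Fin s → ℕ := fun i => k i / m i
  have hsplit : ∑ i, k i * deg i = (∑ i, q i) * l + ∑ i, r i * deg i := by
    rw [Finset.sum_mul, ← Finset.sum_add_distrib]
    refine Finset.sum_congr rfl fun i _ => ?_
    conv_lhs => rw [← Nat.div_add_mod (k i) (m i)]
    rw [hm i]; ring
  have hr : ∀ i, r i * deg i + 1 ≤ l := fun i => by
    have h1 : r i < m i := Nat.mod_lt _ (hm0 i)
    have h2 : (r i + 1) * deg i ≤ m i * deg i := Nat.mul_le_mul_right _ h1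
    rw [hm i, mul_comm (deg i)]
    have := hdeg i
    rw [add_mul, one_mul] at h2
    omega
  obtain ⟨c, hc⟩ : l ∣ ∑ i, r i * deg i := by
    refine (Nat.dvd_add_right (Dvd.intro_left _ rfl : l ∣ (∑ i, q i) * l)).1 ?_
    rw [← hsplit, hk, ← mul_assoc]
    exact Dvd.intro_left _ rfl
  have hc' : c ≤ s - 1 := by
    by_contra h
    have h1 : ∑ i, (r i * deg i + 1) ≤ ∑ i : Fin s, l := Finset.sum_le_sum fun i _ => hr i
    rw [Finset.sum_add_distrib, Finset.sum_const, Finset.sum_const, Finset.card_univ, Fintype.card_fin,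
      smul_eq_mul, smul_eq_mul, mul_one, hc] at h1
    have h2 : s * l ≤ c * l := Nat.mul_le_mul_right _ (by omega)
    rw [mul_comm l c] at h1
    rcases Nat.eq_zero_or_pos s with hs | hs
    · subst hs
      simp at hc
      rcases hc with h3 | h3 <;> omega
    · omega
  have hq : a - c ≤ ∑ i, q i := by
    rw [hsplit, hc] at hk
    have h3 : ((∑ i, q i) + c) * l = (j * a) * l := by rw [add_mul, mul_comm c l, hk, mul_assoc]
    have h4 := Nat.eq_of_mul_eq_mul_right hl0 h3
    have : a ≤ j * a := Nat.le_mul_of_pos_left a hj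
    omega
  obtain ⟨q', hq', hq''⟩ := exists_le_sum_eq q _ hq
  refine ⟨fun i => r i + m i * q' i, fun i => ?_, ?_⟩
  · have h : m i * q' i ≤ m i * q i := Nat.mul_le_mul_left _ (hq' i)
    have := Nat.div_add_mod (k i) (m i)
    simp only [r, q] at *
    omega
  · have h : ∑ i, (r i + m i * q' i) * deg i = (∑ i, r i * deg i) + (∑ i, q' i) * l := by
      rw [Finset.sum_mul, ← Finset.sum_add_distrib]
      refine Finset.sum_congr rfl fun i _ => ?_
      rw [hm i]; ring
    rw [h, hc, hq'', mul_comm l c, ← add_mul, Nat.add_sub_cancel' (hc'.trans has)]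

/-- The monomials of weight a multiple of `a * l` are products of those of weight `a * l`. -/
theorem Mon_subset_closure (hdeg : ∀ i, 0 < deg i) {a : ℕ} (ha : 0 < a) (has : s - 1 ≤ a) : ∀ j : ℕ,
    Mon f deg (j * (a * Finset.univ.lcm deg)) ⊆ Submonoid.closure (Mon f deg (a * Finset.univ.lcm deg))
  | 0 => by
    rintro x ⟨k, hk, rfl⟩
    rw [zero_mul, Finset.sum_eq_zero_iff] at hk
    rw [Finset.prod_eq_one fun i hi => by
      rw [(Nat.mul_eq_zero.1 (hk i hi)).resolve_right (hdeg i).ne', pow_zero]]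
    exact one_mem _
  | j + 1 => by
    rintro x ⟨k, hk, rfl⟩
    obtain ⟨k', hle, hk'⟩ := exists_split hdeg has k (Nat.succ_pos j) hk
    have h2 : ∑ i, (k i - k' i) * deg i = j * (a * Finset.univ.lcm deg) := by
      have h : ∑ i, k i * deg i = ∑ i, (k i - k' i) * deg i + ∑ i, k' i * deg i := by
        rw [← Finset.sum_add_distrib]
        exact Finset.sum_congr rfl fun i _ => by rw [← add_mul, Nat.sub_add_cancel (hle i)]
      rw [hk, hk', add_mul, one_mul] at h
      omega
    rw [show ∏ i, f i ^ k i = (∏ i, f i ^ (k i - k' i)) * ∏ i, f i ^ k' i by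
      rw [← Finset.prod_mul_distrib]
      exact Finset.prod_congr rfl fun i _ => by rw [← pow_add, Nat.sub_add_cancel (hle i)]]
    exact mul_mem (Mon_subset_closure hdeg ha has j ⟨_, h2, rfl⟩) (Submonoid.subset_closure ⟨_, hk', rfl⟩)

end GrothLib.VerEmb4
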