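import Groth.Agent.Lib.ProjAlg.Proper
import Groth.Agent.Lib.Hyperplane.Pullback
import Groth.Agent.Lib.ProjPic26.Over
import Groth.Agent.Lib.ProjCohom.Twist
import Groth.Agent.Lib.GradedAlg.VeroneseProj
import Groth.Agent.Lib.VerTilde10.Main

/-!
# Projective embeddings by a Veronese subalgebra generated in degree one
-/

set_option autoImplicit false
set_option linter.all false
set_option backward.isDefEq.respectTransparency false

universe u

open CategoryTheory CategoryTheory.Limits AlgebraicGeometry HomogeneousLocalization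

namespace GrothLib.VerEmb4

open GrothLib.GradedAlg

variable {R A : Type u} [CommRing R] [CommRing A] [Algebra R A] (𝒜 : ℕ → Submodule R A) [GradedAlgebra 𝒜]

theorem toSpecZero_verHom {B : Type u} [CommRing B] [Algebra R B] (ℬ : ℕ → Submodule R B) [GradedAlgebra ℬ]
    (φ : B →ₐ[R] A) {d : ℕ} (hd : 0 < d) (hdeg : ∀ n : ℕ, Submodule.map φ.toLinearMap (ℬ n) = 𝒜 (n * d)) :
    verHom 𝒜 ℬ φ hdeg hd ≫ Proj.toSpecZero ℬ ≫ Spec.map (CommRingCat.ofHom (algebraMap R (ℬ 0))) =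
      Proj.toSpecZero 𝒜 ≫ Spec.map (CommRingCat.ofHom (algebraMap R (𝒜 0))) := by
  refine (verCover 𝒜 ℬ φ hdeg hd).openCover.hom_ext _ _ fun j => ?_
  rw [← Category.assoc ((verCover 𝒜 ℬ φ hdeg hd).openCover.f j), cover_f_verHom]
  simp only [Category.assoc, verCover, Scheme.AffineOpenCover.openCover_f]
  rw [Proj.awayι_toSpecZero_assoc, Proj.awayι_toSpecZero_assoc]
  simp only [← Spec.map_comp]
  congr 1
  ext r
  simp only [CommRingCat.hom_comp, CommRingCat.hom_ofHom, RingHom.comp_apply]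
  rw [val_theta]
  simp only [fromZeroRingHom, RingHom.coe_mk, MonoidHom.coe_mk, OneHom.coe_mk, val_mk]
  simp only [Localization.awayMap, IsLocalization.Away.map, Localization.mk_eq_mk', IsLocalization.map_mk',
    AlgHom.toRingHom_eq_coe, RingHom.coe_coe]
  congr 1
  · exact φ.commutes r
  · ext; exact map_one φ

set_option maxHeartbeats 2000000 in
/-- A Veronese subalgebra generated in degree one by finitely many elements embeds `Proj`. -/
theorem exists_embedding {B : Type u} [CommRing B] [Algebra R B] (ℬ : ℕ → Submodule R B) [GradedAlgebra ℬ]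
    (φ : B →ₐ[R] A) (hφ : Function.Injective φ) {d : ℕ} (hd : 0 < d)
    (hdeg : ∀ n : ℕ, Submodule.map φ.toLinearMap (ℬ n) = 𝒜 (n * d))
    (hgen : Subring.closure ((ℬ 0 : Set B) ∪ (ℬ 1 : Set B)) = ⊤) {M : ℕ} (t : Fin (M + 1) → B)
    (ht : ∀ i, t i ∈ ℬ 1)
    (hspan : ∀ x ∈ ℬ 1, ∃ c : Fin (M + 1) → R, x = ∑ k, (algebraMap R (ℬ 0) (c k) : B) * t k) :
    ∃ i : Proj 𝒜 ⟶ CohB1.ProjSpaceOver M (Spec (CommRingCat.of R)), IsClosedImmersion i ∧
      i ≫ pullback.snd (CohB1.ProjSpace.toSpec M (ULift.{u} ℤ)) (specULiftZIsTerminal.from (Spec (CommRingCat.of R))) =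
        Proj.toSpecZero 𝒜 ≫ Spec.map (CommRingCat.ofHom (algebraMap R (𝒜 0))) ∧
      Nonempty (Twist.twist 𝒜 ((d : ℕ) : ℤ) ≅
        (Scheme.Modules.pullback i).obj (Twist.twistOver M (Spec (CommRingCat.of R)) 1)) := by
  let str := algebraMap R (ℬ 0)
  let ψ := ProjAlg.polyGHom ℬ str t ht
  let g := Proj.map ψ (ProjAlg.irrelevant_le ℬ str t ht hgen hspan)
  haveI : IsClosedImmersion g := ProjAlg.isClosedImmersion_map_of_pos ψ _ fun n hn b hb => by
    obtain ⟨P, -, hP⟩ := ProjAlg.exists_preimage ℬ str t ht hgen hspan hn hb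
    exact ⟨P, hP⟩
  have hg : g ≫ CohB1.ProjSpace.toSpec M R = Proj.toSpecZero ℬ ≫ Spec.map (CommRingCat.ofHom str) := by
    refine (Proj.mapAffineOpenCover ψ (ProjAlg.irrelevant_le ℬ str t ht hgen hspan)).openCover.hom_ext _ _
      fun s => ?_
    simp only [Scheme.AffineOpenCover.openCover_f, Proj.mapAffineOpenCover_f, CohB1.ProjSpace.toSpec, g]
    rw [Proj.awayι_comp_map_assoc ψ _ _ _ s.2.2, Proj.awayι_toSpecZero_assoc,
      Proj.awayι_toSpecZero_assoc]
    simp only [← Spec.map_comp]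
    congr 1
    ext r
    simp only [CommRingCat.hom_comp, CommRingCat.hom_ofHom, RingHom.comp_apply]
    simp only [Away.map, fromZeroRingHom, RingHom.coe_mk, MonoidHom.coe_mk, OneHom.coe_mk,
      HomogeneousLocalization.map_mk, val_mk]
    congr 1
    · exact (MvPolynomial.eval₂Hom_C _ _ r)
    · ext; exact map_one ψ
  obtain ⟨ω, hω1, hω⟩ := ProjPic26.exists_isPullback_point (n := M) (Spec (CommRingCat.of R))
    (𝟙 (Spec (CommRingCat.of R)))
  haveI : IsIso ω := hω.isIso_fst_of_isIso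
  let e := verIso 𝒜 ℬ φ hdeg hd hφ
  refine ⟨e.hom ≫ g ≫ ω, inferInstance, ?_, ?_⟩
  · have hw := hω.w
    rw [Category.comp_id] at hw
    rw [Category.assoc, Category.assoc]
    refine (congrArg (fun m => e.hom ≫ g ≫ m) hw).trans ?_
    rw [hg]
    exact toSpecZero_verHom 𝒜 ℬ φ hd hdeg
  · obtain ⟨φ₁⟩ := ProjCohom.nonempty_pullback_twistOver M (Spec (CommRingCat.of R)) 1 hω1
    obtain ⟨φ₂⟩ := Hyperplane.nonempty_pullback_twist_one ψ (ProjAlg.irrelevant_le ℬ str t ht hgen hspan)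
      (fun i : ULift.{u} (Fin (M + 1)) => (MvPolynomial.X i.down : MvPolynomial (Fin (M + 1)) R))
      (fun i => MvPolynomial.isHomogeneous_X R i.down)
      (top_le_iff.1 ((Ample.ProjMap.iSup_basicOpen_X M R).ge.trans
        (iSup_le fun i => le_iSup_of_le (ULift.up i) le_rfl)))
    let v : B →ₛₗ[φ.toRingHom] A :=
      { toFun := φ
        map_add' := map_add φ
        map_smul' := fun r x => by simp }
    have hvdeg : ∀ m : ℕ, (ℬ m : Set B).image v = (𝒜 (m * d) : Set A) := fun m => by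
      rw [← hdeg m]; rfl
    obtain ⟨φ₃⟩ := VerTilde10.nonempty_iso (ℳ := 𝒜) (𝒩 := ℬ) (e := e)
      ⟨hd, hφ, hdeg, fun n g' hn hg' θ hθ => by
        refine (awayι_verHom 𝒜 ℬ φ hdeg hd hn g' hg').trans ?_
        congr 2
        ext y
        exact (val_theta 𝒜 ℬ φ hdeg g' y).trans (RingHom.congr_fun hθ y).symm⟩
      v hvdeg hφ (show ((d : ℕ) : ℤ) = ((1 : ℕ) : ℤ) * (d : ℕ) by rw [Nat.cast_one, one_mul])
    have φ₄ : Twist.twist 𝒜 ((d : ℕ) : ℤ) ≅ (Scheme.Modules.pullback e.hom).obj (Twist.twist ℬ ((1 : ℕ) : ℤ)) := φ₃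
    have h1 : ((1 : ℕ) : ℤ) = (1 : ℤ) := Nat.cast_one
    have φ₅ : (Scheme.Modules.pullback g).obj (Twist.twistProjSpace M R ((1 : ℕ) : ℤ)) ≅ Twist.twist ℬ ((1 : ℕ) : ℤ) := φ₂
    have φ₆ : (Scheme.Modules.pullback g).obj ((Scheme.Modules.pullback ω).obj
        (Twist.twistOver M (Spec (CommRingCat.of R)) 1)) ≅ Twist.twist ℬ ((1 : ℕ) : ℤ) :=
      (Scheme.Modules.pullback g).mapIso (φ₁ ≪≫ eqToIso (congrArg (Twist.twistProjSpace M R) h1.symm)) ≪≫ φ₅
    exact ⟨φ₄ ≪≫ (Scheme.Modules.pullback e.hom).mapIso φ₆.symm ≪≫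
      ((Scheme.Modules.pullback e.hom).mapIso ((Scheme.Modules.pullbackComp g ω).app _)) ≪≫
      (Scheme.Modules.pullbackComp e.hom (g ≫ ω)).app _⟩

end GrothLib.VerEmb4
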